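import Mathlib

/-! The largest open where a source-local property holds. -/

set_option autoImplicit false
universe u
open CategoryTheory AlgebraicGeometry TopologicalSpace

namespace Groth.Agent.SourceLocal

variable (Q P : MorphismProperty Scheme.{u}) [P.IsLocalAtSource (Scheme.precoverage Q)]

theorem precomp (hid : ∀ X : Scheme.{u}, Q (𝟙 X)) {U' U Y : Scheme.{u}} (j : U' ⟶ U) (hj : Q j)
    (h : U ⟶ Y) (hP : P h) : P (j ≫ h) := by
  let E := (PreZeroHypercover.singleton.{u} j).sum (PreZeroHypercover.singleton.{u} (𝟙 U))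
  have hE : E.presieve₀ ∈ Scheme.precoverage Q U := by
    rw [Scheme.presieve₀_mem_precoverage_iff]
    exact ⟨fun x => ⟨Sum.inr ⟨⟩, x, rfl⟩, by rintro (_ | _); exacts [hj, hid U]⟩
  exact MorphismProperty.IsLocalAtSource.comp (P := P) hE j (Presieve.ofArrows.mk (Y := E.X) (f := E.f) (Sum.inl ⟨⟩)) hP

theorem of_cover {ι : Type u} {U Y : Scheme.{u}} (Z : ι → Scheme.{u}) (j : ∀ i, Z i ⟶ U)
    (hQ : ∀ i, Q (j i)) (hsurj : ∀ x : U, ∃ i, x ∈ Set.range (j i)) (h : U ⟶ Y)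
    (hP : ∀ i, P (j i ≫ h)) : P h := by
  let E : PreZeroHypercover.{u} U := ⟨ι, Z, j⟩
  have hE : E.presieve₀ ∈ Scheme.precoverage Q U := by
    rw [Scheme.presieve₀_mem_precoverage_iff]
    exact ⟨hsurj, hQ⟩
  exact MorphismProperty.IsLocalAtSource.of_forall_comp (P := P) hE fun V g hg => by
    cases hg with | mk i => exact hP i

theorem exists_largest (hid : ∀ X : Scheme.{u}, Q (𝟙 X))
    (hopen : ∀ {A B : Scheme.{u}} (j : A ⟶ B) [IsOpenImmersion j], Q j) {X Y : Scheme.{u}} (f : X ⟶ Y) :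
    ∃ W : X.Opens, (P (W.ι ≫ f) ∧ ∀ W' : X.Opens, P (W'.ι ≫ f) → W' ≤ W) ∧
      ∀ (X' : Scheme.{u}) (g : X' ⟶ X),
        (∀ (O : X.Opens) (V : X'.Opens) (e : V ≤ g ⁻¹ᵁ O), Q (g.resLE O V e)) →
        (∀ V : X'.Opens, IsOpen (g '' (V : Set X'))) → ∀ V : X'.Opens,
        (P (V.ι ≫ g ≫ f) ∧ ∀ V' : X'.Opens, P (V'.ι ≫ g ≫ f) → V' ≤ V) → V = g ⁻¹ᵁ W := by
  let W : X.Opens := sSup {W | P (W.ι ≫ f)}
  have hW : P (W.ι ≫ f) := by
    refine of_cover Q P (ι := {O : X.Opens // P (O.ι ≫ f)}) (fun O => (O.1 : Scheme.{u}))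
      (fun O => X.homOfLE (le_sSup O.2)) (fun O => hopen _) (fun x => ?_) _ fun O => ?_
    · obtain ⟨O, hO, hx⟩ := Opens.mem_sSup.mp x.2
      exact ⟨⟨O, hO⟩, ⟨x.1, hx⟩, Subtype.ext (by simp)⟩
    · rw [← Category.assoc, Scheme.homOfLE_ι]; exact O.2
  refine ⟨W, ⟨hW, fun W' h => le_sSup h⟩, fun X' g hQ hop V ⟨hV, hmax⟩ => le_antisymm ?_ (hmax _ ?_)⟩
  · let O : X.Opens := ⟨g '' (V : Set X'), hop V⟩
    have e : V ≤ g ⁻¹ᵁ O := fun x hx => ⟨x, hx, rfl⟩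
    have hO : P (O.ι ≫ f) := by
      refine of_cover Q P (ι := PUnit) (fun _ => (V : Scheme.{u})) (fun _ => g.resLE O V e)
        (fun _ => hQ O V e) (fun x => ?_) _ fun _ => ?_
      · obtain ⟨v, hv, hvx⟩ := x.2
        refine ⟨⟨⟩, ⟨v, hv⟩, Subtype.ext ?_⟩
        show O.ι (g.resLE O V e ⟨v, hv⟩) = x.1
        rw [← Scheme.Hom.comp_apply, Scheme.Hom.resLE_comp_ι]
        exact hvx
      · rw [← Category.assoc, Scheme.Hom.resLE_comp_ι, Category.assoc]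
        exact hV
    exact fun x hx => le_sSup (a := O) hO ⟨x, hx, rfl⟩
  · have := precomp Q P hid (g.resLE W (g ⁻¹ᵁ W) le_rfl) (hQ _ _ _) _ hW
    rwa [← Category.assoc, Scheme.Hom.resLE_comp_ι, Category.assoc] at this

end Groth.Agent.SourceLocal
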